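import Mathlib
import Groth.Prelude.Def_IdealRed

set_option autoImplicit false

open IdealRed

namespace Groth.Agent.IR14

universe u

variable {R : Type u} [CommRing R]

lemma mul_pow_le {a b : Ideal R} (h : a ≤ b) (s : ℕ) : a * b ^ s ≤ b ^ (s + 1) := by
  rw [pow_succ']; exact Ideal.mul_mono_left h

lemma isReduction_iff_le {a b : Ideal R} :
    IsReduction a b ↔ a ≤ b ∧ ∃ s, b ^ (s + 1) ≤ a * b ^ s :=
  ⟨fun ⟨h, s, hs⟩ => ⟨h, s, hs.ge⟩, fun ⟨h, s, hs⟩ => ⟨h, s, le_antisymm (mul_pow_le h s) hs⟩⟩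

lemma isReduction_mono {a c b : Ideal R} (h : IsReduction a b) (hac : a ≤ c) (hcb : c ≤ b) :
    IsReduction c b := by
  obtain ⟨-, s, hs⟩ := isReduction_iff_le.1 h
  exact isReduction_iff_le.2 ⟨hcb, s, hs.trans (Ideal.mul_mono_left hac)⟩

lemma isReduction_refl (a : Ideal R) : IsReduction a a := ⟨le_rfl, 0, by simp⟩

lemma isReduction_trans {a c d : Ideal R} (h1 : IsReduction a c) (h2 : IsReduction c d) :
    IsReduction a d := by
  obtain ⟨hac, s, hs⟩ := h1
  obtain ⟨hcd, t, ht⟩ := h2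
  have key : ∀ k, c ^ k * d ^ t = d ^ (k + t) := by
    intro k
    induction k with
    | zero => simp
    | succ k ih =>
      rw [pow_succ', mul_assoc, ih, pow_add, mul_left_comm, ht, ← pow_add]
      congr 1; omega
  refine ⟨hac.trans hcd, s + t, ?_⟩
  rw [← key s, ← mul_assoc, hs, key]
  congr 1; omega

lemma sup_span_pow_le (a : Ideal R) (r : R) : ∀ n : ℕ,
    (a ⊔ Ideal.span {r}) ^ (n + 1) ≤ a * (a ⊔ Ideal.span {r}) ^ n ⊔ Ideal.span {r ^ (n + 1)} := by
  intro n
  induction n with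
  | zero => simp
  | succ n ih =>
    rw [pow_succ _ (n + 1)]
    refine (Ideal.mul_mono_left ih).trans ?_
    rw [Ideal.sup_mul, mul_assoc, ← pow_succ]
    refine sup_le le_sup_left ?_
    rw [Ideal.mul_sup, Ideal.span_singleton_mul_span_singleton, ← pow_succ]
    refine sup_le (le_sup_of_le_left ?_) le_sup_right
    rw [mul_comm (Ideal.span {r ^ (n + 1)}) a]
    refine Ideal.mul_mono_right ?_
    rw [Ideal.span_singleton_le_iff_mem]
    exact Ideal.pow_mem_pow (Ideal.mem_sup_right (Ideal.mem_span_singleton_self r)) _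

def IntDep (a : Ideal R) (r : R) : Prop :=
  ∃ p : Polynomial R, p.Monic ∧ 0 < p.natDegree ∧ (∀ j : ℕ, p.coeff j ∈ a ^ (p.natDegree - j)) ∧
    Polynomial.eval r p = 0

lemma isReduction_of_intDep {a : Ideal R} {r : R} (h : IntDep a r) :
    IsReduction a (a ⊔ Ideal.span {r}) := by
  obtain ⟨p, hp, hn, hc, he⟩ := h
  obtain ⟨n, hn'⟩ : ∃ n, p.natDegree = n + 1 := ⟨p.natDegree - 1, by omega⟩
  refine isReduction_iff_le.2 ⟨le_sup_left, n, (sup_span_pow_le a r n).trans (sup_le le_rfl ?_)⟩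
  rw [Ideal.span_singleton_le_iff_mem]
  have hr : r ^ (n + 1) = - ∑ j ∈ Finset.range (n + 1), p.coeff j * r ^ j := by
    have := he
    rw [Polynomial.eval_eq_sum_range, hn', Finset.sum_range_succ, ← hn', hp.coeff_natDegree, hn', one_mul] at this
    linear_combination this
  rw [hr]
  refine neg_mem (sum_mem fun j hj => ?_)
  have hj' := Finset.mem_range.1 hj
  have h1 := hc j
  rw [hn', show n + 1 - j = (n - j) + 1 by omega, pow_succ'] at h1
  have h2 : p.coeff j * r ^ j ∈ a * a ^ (n - j) * (a ⊔ Ideal.span {r}) ^ j :=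
    Ideal.mul_mem_mul h1 (Ideal.pow_mem_pow (Ideal.mem_sup_right (Ideal.mem_span_singleton_self r)) _)
  rw [mul_assoc] at h2
  refine (Ideal.mul_mono_right ?_) h2
  calc a ^ (n - j) * (a ⊔ Ideal.span {r}) ^ j
      ≤ (a ⊔ Ideal.span {r}) ^ (n - j) * (a ⊔ Ideal.span {r}) ^ j :=
        Ideal.mul_mono_left (Ideal.pow_right_mono le_sup_left _)
    _ = (a ⊔ Ideal.span {r}) ^ n := by rw [← pow_add]; congr 1; omega

lemma intDep_of_isReduction [IsNoetherianRing R] [Nontrivial R] {a b : Ideal R}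
    (h : IsReduction a b) {r : R} (hr : r ∈ b) : IntDep a r := by
  obtain ⟨hab, s, hs⟩ := h
  let f : Module.End R (↥(b ^ s)) := r • LinearMap.id
  have hf : LinearMap.range f ≤ a • ⊤ := by
    rintro _ ⟨x, rfl⟩
    have h1 : r * (x : R) ∈ a • (b ^ s : Submodule R R) := by
      rw [smul_eq_mul, hs, pow_succ']
      exact Ideal.mul_mem_mul hr x.2
    rw [← Submodule.comap_map_eq_of_injective (f := Submodule.subtype (b ^ s)) Subtype.val_injective
      (a • ⊤), Submodule.mem_comap,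
      Submodule.map_smul'', Submodule.map_top, Submodule.range_subtype]
    simpa [f] using h1
  obtain ⟨p, hp, -, hc, he⟩ :=
    LinearMap.exists_monic_and_natDegree_eq_and_coeff_mem_pow_and_aeval_eq_zero (f := f) (I := a) (hI := hf)
  have hfe : f = algebraMap R (Module.End R _) r := by
    ext x; simp [f, Module.algebraMap_end_apply]
  rw [hfe, Polynomial.aeval_algebraMap_apply_eq_algebraMap_eval] at he
  have h0 := congrArg (fun g : Module.End R ↥(b ^ s) => ((g ⟨r ^ s, Ideal.pow_mem_pow hr s⟩ : ↥(b ^ s)) : R)) he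
  simp [Module.algebraMap_end_apply] at h0
  refine ⟨Polynomial.X ^ (s + 1) * p, (Polynomial.monic_X_pow _).mul hp, ?_, ?_, ?_⟩
  · rw [(Polynomial.monic_X_pow _).natDegree_mul hp, Polynomial.natDegree_X_pow]; omega
  · intro j
    rw [(Polynomial.monic_X_pow _).natDegree_mul hp, Polynomial.natDegree_X_pow,
      Polynomial.coeff_X_pow_mul']
    split
    · have := hc (j - (s + 1))
      rwa [show s + 1 + p.natDegree - j = p.natDegree - (j - (s + 1)) by omega]
    · exact zero_mem _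
  · rw [Polynomial.eval_mul, Polynomial.eval_pow, Polynomial.eval_X, pow_succ']
    linear_combination r * h0

theorem intDep_iff [IsNoetherianRing R] [Nontrivial R] (a : Ideal R) (r : R) :
    IntDep a r ↔ IsReduction a (a ⊔ Ideal.span {r}) :=
  ⟨isReduction_of_intDep, fun h => intDep_of_isReduction h (Ideal.mem_sup_right (Ideal.mem_span_singleton_self r))⟩

theorem isReduction_iff_intDep [IsNoetherianRing R] [Nontrivial R] {a b : Ideal R} (hab : a ≤ b) :
    IsReduction a b ↔ ∀ r ∈ b, IntDep a r := by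
  classical
  refine ⟨fun h r hr => intDep_of_isReduction h hr, fun h => ?_⟩
  obtain ⟨T, hT⟩ : b.FG := IsNoetherian.noetherian b
  have key : ∀ S : Finset R, S ⊆ T → IsReduction a (a ⊔ Ideal.span (S : Set R)) := by
    intro S
    induction S using Finset.induction_on with
    | empty => intro _; simpa using isReduction_refl a
    | @insert r S hrS ih =>
      intro hS
      rw [Finset.insert_subset_iff] at hS
      obtain ⟨p, hp, hn, hc, he⟩ := h r (hT ▸ Ideal.subset_span hS.1)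
      have hd : IntDep (a ⊔ Ideal.span (S : Set R)) r :=
        ⟨p, hp, hn, fun j => Ideal.pow_right_mono le_sup_left _ (hc j), he⟩
      have := isReduction_trans (ih hS.2) (isReduction_of_intDep hd)
      rwa [Finset.coe_insert, Ideal.span_insert, sup_comm (Ideal.span {r}), ← sup_assoc]
  have := key T subset_rfl
  have hTb : Ideal.span (T : Set R) = b := hT
  rwa [hTb, sup_eq_right.2 hab] at this

section Local

variable [IsNoetherianRing R] [IsLocalRing R]

local notation "𝔪" => IsLocalRing.maximalIdeal R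

lemma le_of_le_sup_mul {I J : Ideal R} (h : I ≤ J ⊔ 𝔪 * I) : I ≤ J :=
  Submodule.le_of_le_smul_of_le_jacobson_bot (IsNoetherian.noetherian I)
    (IsLocalRing.jacobson_eq_maximalIdeal ⊥ bot_ne_top).ge h

theorem isReduction_sup_iff {a b : Ideal R} (hab : a ≤ b) :
    IsReduction a b ↔ IsReduction (a ⊔ b * 𝔪) b := by
  refine ⟨fun h => isReduction_mono h le_sup_left (sup_le hab Ideal.mul_le_left), fun h => ?_⟩
  obtain ⟨-, s, hs⟩ := isReduction_iff_le.1 h
  refine isReduction_iff_le.2 ⟨hab, s, le_of_le_sup_mul (hs.trans ?_)⟩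
  rw [Ideal.sup_mul]
  refine sup_le_sup_left ?_ _
  rw [mul_comm b, mul_assoc, ← pow_succ']

/-- A generating tuple of minimal length of `c` whose images modulo `b * m` stay independent. -/
lemma exists_core (c b : Ideal R) :
    ∃ c' ≤ c, c' ⊔ b * 𝔪 = c ⊔ b * 𝔪 ∧ c' ⊓ b * 𝔪 ≤ c' * 𝔪 := by
  classical
  have hex : ∃ n : ℕ, ∃ v : Fin n → R, (∀ i, v i ∈ c) ∧ Ideal.span (Set.range v) ⊔ b * 𝔪 = c ⊔ b * 𝔪 := by
    obtain ⟨n, v, hv⟩ := Submodule.fg_iff_exists_fin_generating_family.1 (IsNoetherian.noetherian c)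
    exact ⟨n, v, fun i => hv ▸ Submodule.subset_span ⟨i, rfl⟩, by rw [show Ideal.span (Set.range v) = c from hv]⟩
  obtain ⟨n, ⟨v, hv, hsup⟩, hmin⟩ : ∃ n : ℕ, (∃ v : Fin n → R, (∀ i, v i ∈ c) ∧
      Ideal.span (Set.range v) ⊔ b * 𝔪 = c ⊔ b * 𝔪) ∧ ∀ k < n, ¬ ∃ v : Fin k → R, (∀ i, v i ∈ c) ∧
      Ideal.span (Set.range v) ⊔ b * 𝔪 = c ⊔ b * 𝔪 :=
    ⟨_, Nat.find_spec hex, fun k hk => Nat.find_min hex hk⟩
  refine ⟨_, Ideal.span_le.2 (Set.range_subset_iff.2 hv), hsup, ?_⟩
  rintro x ⟨hx, hxb⟩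
  obtain ⟨r, rfl⟩ := (Submodule.mem_span_range_iff_exists_fun R).1 hx
  by_cases hall : ∀ i, r i ∈ 𝔪
  · refine Submodule.sum_mem _ fun i _ => ?_
    rw [smul_eq_mul, mul_comm (Ideal.span (Set.range v))]
    exact Ideal.mul_mem_mul (hall i) (Ideal.subset_span ⟨i, rfl⟩)
  · exfalso
    push Not at hall
    obtain ⟨i, hi⟩ := hall
    rw [IsLocalRing.notMem_maximalIdeal] at hi
    obtain ⟨k, hk⟩ : ∃ k, n = k + 1 := ⟨n - 1, by have := i.2; omega⟩
    subst hk
    refine hmin k (by omega) ⟨v ∘ i.succAbove, fun j => hv _, ?_⟩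
    refine le_antisymm (sup_le_sup_right (Ideal.span_le.2 (Set.range_subset_iff.2 fun j => hv _)) _) ?_
    rw [← hsup]
    refine sup_le (Ideal.span_le.2 ?_) le_sup_right
    rintro _ ⟨j, rfl⟩
    rcases Fin.eq_self_or_eq_succAbove i j with rfl | ⟨j', rfl⟩
    · rw [Fin.sum_univ_succAbove _ j] at hxb
      obtain ⟨u, hu⟩ := hi
      have h1 : v j = ((u⁻¹ : Rˣ) : R) * ((r j • v j + ∑ l, r (j.succAbove l) • v (j.succAbove l)) -
          ∑ l, r (j.succAbove l) • v (j.succAbove l)) := by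
        rw [add_sub_cancel_right, smul_eq_mul, ← hu, ← mul_assoc, Units.inv_mul, one_mul]
      rw [SetLike.mem_coe, h1]
      exact Ideal.mul_mem_left _ _ (Submodule.sub_mem _ (Submodule.mem_sup_right hxb) (Submodule.mem_sup_left
        (Submodule.sum_mem _ fun l _ => Submodule.smul_mem _ _ (Ideal.subset_span ⟨l, rfl⟩))))
    · exact Ideal.mem_sup_left (Ideal.subset_span ⟨j', rfl⟩)

theorem core_of_isMinimalReduction {a b : Ideal R} (h : IsMinimalReduction a b) :
    a ⊓ b * 𝔪 = a * 𝔪 := by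
  obtain ⟨c, hca, hsup, hint⟩ := exists_core a b
  have hab := h.1.1
  have hc : IsReduction c b := by
    rw [isReduction_sup_iff (hca.trans hab), hsup, ← isReduction_sup_iff hab]
    exact h.1
  rw [h.2 c hc hca] at hint
  exact le_antisymm hint (le_inf Ideal.mul_le_left (Ideal.mul_mono_left hab))

/-- Injectivity of the inclusion modulo `m`, and minimal numbers of generators. -/
lemma spanFinrank_le_of_inf_le {c d : Ideal R} (hcd : c ≤ d) (h : c ⊓ d * 𝔪 ≤ c * 𝔪) :
    c.spanFinrank ≤ d.spanFinrank ∧ (c.spanFinrank = d.spanFinrank → c = d) := by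
  rw [IsLocalRing.spanFinrank_eq_finrank_quotient c (IsNoetherian.noetherian c),
    IsLocalRing.spanFinrank_eq_finrank_quotient d (IsNoetherian.noetherian d)]
  have hsmul : ∀ (N : Ideal R) (x : N), x ∈ (𝔪 • ⊤ : Submodule R N) ↔ (x : R) ∈ N * 𝔪 := by
    intro N x
    rw [← Submodule.comap_map_eq_of_injective (f := Submodule.subtype N) Subtype.val_injective (𝔪 • ⊤),
      Submodule.mem_comap, Submodule.map_smul'', Submodule.map_top, Submodule.range_subtype, smul_eq_mul, mul_comm]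
    rfl
  let φ : (↥c ⧸ (𝔪 • ⊤ : Submodule R c)) →ₗ[R] (↥d ⧸ (𝔪 • ⊤ : Submodule R d)) :=
    Submodule.mapQ _ _ (Submodule.inclusion hcd) fun x hx => by
      rw [Submodule.mem_comap, hsmul]
      exact Ideal.mul_mono_left hcd ((hsmul c x).1 hx)
  let ψ : (↥c ⧸ (𝔪 • ⊤ : Submodule R c)) →ₗ[R ⧸ 𝔪] (↥d ⧸ (𝔪 • ⊤ : Submodule R d)) :=
    { φ with
      map_smul' := fun r x => by
        obtain ⟨r, rfl⟩ := Ideal.Quotient.mk_surjective r
        exact φ.map_smul r x }
  have hinj : Function.Injective ψ := by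
    rw [injective_iff_map_eq_zero]
    intro x hx
    obtain ⟨x, rfl⟩ := Submodule.Quotient.mk_surjective _ x
    change Submodule.Quotient.mk (Submodule.inclusion hcd x) = 0 at hx
    rw [Submodule.Quotient.mk_eq_zero, hsmul] at hx ⊢
    exact h ⟨x.2, hx⟩
  letI : Field (R ⧸ 𝔪) := Ideal.Quotient.field 𝔪
  have : Module.Finite (R ⧸ 𝔪) (↥d ⧸ (𝔪 • ⊤ : Submodule R d)) :=
    Module.Finite.of_restrictScalars_finite R _ _
  refine ⟨LinearMap.finrank_le_finrank_of_injective hinj, fun heq => le_antisymm hcd ?_⟩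
  have : Module.Finite (R ⧸ 𝔪) (↥c ⧸ (𝔪 • ⊤ : Submodule R c)) :=
    Module.Finite.of_restrictScalars_finite R _ _
  have hsurj := (LinearMap.injective_iff_surjective_of_finrank_eq_finrank heq).1 hinj
  refine le_of_le_sup_mul fun x hx => ?_
  obtain ⟨y, hy⟩ := hsurj (Submodule.Quotient.mk ⟨x, hx⟩)
  obtain ⟨y, rfl⟩ := Submodule.Quotient.mk_surjective _ y
  change Submodule.Quotient.mk (Submodule.inclusion hcd y) = _ at hy
  rw [Submodule.Quotient.eq, hsmul] at hy
  have h2 : x = (y : R) - ((Submodule.inclusion hcd y - ⟨x, hx⟩ : d) : R) := by simp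
  rw [h2]
  exact Submodule.sub_mem _ (Ideal.mem_sup_left y.2) (Ideal.mem_sup_right (by rw [mul_comm]; exact hy))

theorem exists_minimalReduction {a b : Ideal R} (hab : IsReduction a b) :
    ∃ c ≤ a, IsMinimalReduction c b := by
  classical
  have hex : ∃ n : ℕ, ∃ c ≤ a, IsReduction c b ∧ c ⊓ b * 𝔪 ≤ c * 𝔪 ∧ c.spanFinrank = n := by
    obtain ⟨c, hc, hsup, hint⟩ := exists_core a b
    refine ⟨_, c, hc, ?_, hint, rfl⟩
    rw [isReduction_sup_iff (hc.trans hab.1), hsup, ← isReduction_sup_iff hab.1]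
    exact hab
  obtain ⟨c, hca, hc, hint, hn⟩ := Nat.find_spec hex
  refine ⟨c, hca, hc, fun d hd hdc => ?_⟩
  obtain ⟨d', hd', hsup', hint'⟩ := exists_core d b
  have hd'r : IsReduction d' b := by
    rw [isReduction_sup_iff (hd'.trans hd.1), hsup', ← isReduction_sup_iff hd.1]
    exact hd
  have hle := Nat.find_min' hex ⟨d', (hd'.trans hdc).trans hca, hd'r, hint', rfl⟩
  obtain ⟨h1, h2⟩ := spanFinrank_le_of_inf_le (hd'.trans hdc)
    ((inf_le_inf_left _ (Ideal.mul_mono_left hc.1)).trans hint')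
  have heq : d' = c := h2 (le_antisymm h1 (hn.le.trans hle))
  exact le_antisymm hdc (heq.ge.trans hd')

end Local

section Graded

variable {σ : Type*} [SetLike σ R] [AddSubmonoidClass σ R] (𝒜 : ℕ → σ) [GradedRing 𝒜]

lemma span_one_pow_le : ∀ n, Ideal.span (𝒜 1 : Set R) ^ n ≤ Ideal.span (𝒜 n : Set R) := by
  intro n
  induction n with
  | zero =>
    rw [pow_zero, Ideal.one_eq_top, top_le_iff, Ideal.eq_top_iff_one]
    exact Ideal.subset_span (SetLike.one_mem_graded 𝒜)
  | succ n ih =>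
    rw [pow_succ]
    refine (Ideal.mul_mono_left ih).trans ?_
    rw [Ideal.span_mul_span', Ideal.span_le]
    rintro _ ⟨x, hx, y, hy, rfl⟩
    exact Ideal.subset_span (SetLike.mul_mem_graded hx hy)

lemma component_le (hhom : (HomogeneousIdeal.irrelevant 𝒜).toIdeal = Ideal.span (𝒜 1 : Set R))
    (S : Set R) (hS : S ⊆ (𝒜 1 : Set R)) {n : ℕ} {x : R} (hx : x ∈ 𝒜 (n + 1)) (hxS : x ∈ Ideal.span S) :
    x ∈ Ideal.span S * Ideal.span (𝒜 n : Set R) := by
  have key : ∀ z ∈ Ideal.span S, GradedRing.proj 𝒜 (n + 1) z ∈ Ideal.span S * Ideal.span (𝒜 n : Set R) := by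
    intro z hz
    induction hz using Submodule.span_induction with
    | mem s hs =>
      rw [GradedRing.proj_apply]
      rcases Nat.eq_zero_or_pos n with rfl | hn
      · rw [DirectSum.decompose_of_mem_same 𝒜 (hS hs)]
        exact mul_one s ▸ Ideal.mul_mem_mul (Ideal.subset_span hs) (Ideal.subset_span (SetLike.one_mem_graded 𝒜))
      · rw [DirectSum.decompose_of_mem_ne 𝒜 (hS hs) (by omega)]
        exact zero_mem _
    | zero => rw [map_zero]; exact zero_mem _
    | add a b _ _ ha hb => rw [map_add]; exact add_mem ha hb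
    | smul r z hzS hz' =>
      rw [smul_eq_mul]
      clear hz'
      induction hzS using Submodule.span_induction generalizing r with
      | mem s hs =>
        rw [GradedRing.proj_apply, DirectSum.coe_decompose_mul_of_right_mem_of_le 𝒜 (hS hs) (by omega), mul_comm (Ideal.span S)]
        refine Ideal.mul_mem_mul (Ideal.subset_span ?_) (Ideal.subset_span hs)
        have := SetLike.coe_mem (DirectSum.decompose 𝒜 r (n + 1 - 1))
        simpa using this
      | zero => rw [mul_zero, map_zero]; exact zero_mem _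
      | add a b _ _ ha hb => rw [mul_add, map_add]; exact add_mem (ha r) (hb r)
      | smul t z _ hz => rw [smul_eq_mul, ← mul_assoc]; exact hz _
  have := key x hxS
  rwa [GradedRing.proj_apply, DirectSum.decompose_of_mem_same 𝒜 hx] at this

lemma mem_pow_of_mem (hhom : (HomogeneousIdeal.irrelevant 𝒜).toIdeal = Ideal.span (𝒜 1 : Set R)) :
    ∀ n, (𝒜 n : Set R) ⊆ (Ideal.span (𝒜 1 : Set R) ^ n : Ideal R) := by
  intro n
  induction n with
  | zero => intro x _; simp
  | succ n ih =>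
    intro x hx
    have hxi : x ∈ Ideal.span (𝒜 1 : Set R) := by
      rw [← hhom, HomogeneousIdeal.mem_iff, HomogeneousIdeal.mem_irrelevant_iff, GradedRing.proj_apply,
        DirectSum.decompose_of_mem_ne 𝒜 hx (by omega)]
    have := component_le 𝒜 hhom _ subset_rfl hx hxi
    rw [SetLike.mem_coe, pow_succ']
    exact Ideal.mul_mono_right (Ideal.span_le.2 ih) this

theorem graded_reduction (hhom : (HomogeneousIdeal.irrelevant 𝒜).toIdeal = Ideal.span (𝒜 1 : Set R))
    (S : Set R) (hS : S ⊆ (𝒜 1 : Set R)) (m : ℕ) :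
    Ideal.span S * (HomogeneousIdeal.irrelevant 𝒜).toIdeal ^ m = (HomogeneousIdeal.irrelevant 𝒜).toIdeal ^ (m + 1) ↔
      (𝒜 (m + 1) : Set R) ⊆ (Ideal.span S : Set R) := by
  rw [hhom]
  refine ⟨fun h x hx => Ideal.mul_le_left (h.ge (mem_pow_of_mem 𝒜 hhom (m + 1) hx)), fun h => ?_⟩
  refine le_antisymm (mul_pow_le (Ideal.span_mono hS) m) ((span_one_pow_le 𝒜 (m + 1)).trans (Ideal.span_le.2 fun x hx => ?_))
  exact Ideal.mul_mono_right (Ideal.span_le.2 (mem_pow_of_mem 𝒜 hhom m)) (component_le 𝒜 hhom S hS hx (h hx))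

end Graded

end Groth.Agent.IR14
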